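import Cfsg.Prelude.Def_SporadicB
import Cfsg.Agent.S3335
import Cfsg.Agent.LyFus8.Perm11
import Mathlib.GroupTheory.SpecificGroups.Alternating.Simple

/-!
In a non-split double cover of `A₁₁` the double transpositions lift to elements squaring to the
central involution.
-/

set_option autoImplicit false
set_option linter.style.haveILetI false

namespace CfsgLib.LyFus8

open Equiv Cfsg CfsgLib.CoxeterA

/-- A surjection onto `A₁₁` with central kernel `{1, z}` having no complement. -/
structure CoverData (H : Type*) [Group H] where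
  hom : H →* alternatingGroup (Fin 11)
  surj : Function.Surjective hom
  z : H
  z_ne : z ≠ 1
  z_sq : z * z = 1
  z_comm : ∀ h, h * z = z * h
  hom_z : hom z = 1
  ker_mem : ∀ h, hom h = 1 → h = 1 ∨ h = z
  card_eq : Nat.card H = 2 * Nat.card (alternatingGroup (Fin 11))
  central_ker : ∀ h, (∀ a, a * h = h * a) → hom h = 1
  nosplit : ∀ L : Subgroup H, ¬ hom.ker.IsComplement' L

theorem exists_coverData {H : Type*} [Group H] (hH : IsNonsplitDoubleCover H (alternatingGroup (Fin 11))) :
    Nonempty (CoverData H) := by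
  obtain ⟨hc, ⟨e⟩, hns⟩ := hH
  let f : H →* alternatingGroup (Fin 11) :=
    e.toMonoidHom.comp (QuotientGroup.mk' (Subgroup.center H))
  have hker : f.ker = Subgroup.center H := by
    ext x
    simp [f, MonoidHom.mem_ker]
  haveI : Finite (Subgroup.center H) := Nat.finite_of_card_ne_zero (by omega)
  obtain ⟨z, hzne⟩ : ∃ z : Subgroup.center H, z ≠ 1 := by
    haveI : Nontrivial (Subgroup.center H) := Finite.one_lt_card_iff_nontrivial.1 (by omega)
    exact exists_ne 1
  have huniv : ∀ x : Subgroup.center H, x = 1 ∨ x = z := by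
    intro x
    by_contra h
    push Not at h
    haveI := Fintype.ofFinite (Subgroup.center H)
    classical
    have h3 : ({1, z, x} : Finset (Subgroup.center H)).card = 3 :=
      Finset.card_eq_three.2 ⟨1, z, x, hzne.symm, h.1.symm, h.2.symm, rfl⟩
    have := Finset.card_le_univ ({1, z, x} : Finset (Subgroup.center H))
    rw [← Nat.card_eq_fintype_card, hc] at this
    omega
  refine ⟨{
    hom := f
    surj := e.surjective.comp (QuotientGroup.mk'_surjective _)
    z := z
    z_ne := fun h => hzne (Subtype.ext h)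
    z_sq := ?_
    z_comm := fun h => Subgroup.mem_center_iff.1 z.2 h
    hom_z := MonoidHom.mem_ker.1 (hker.symm ▸ z.2)
    ker_mem := ?_
    card_eq := ?_
    central_ker := fun h hh => MonoidHom.mem_ker.1 (hker.symm ▸ Subgroup.mem_center_iff.2 hh)
    nosplit := ?_ }⟩
  · rcases huniv (z * z) with h | h
    · exact congrArg Subtype.val h
    · exact absurd (mul_eq_right.1 h) hzne
  · intro h hh
    have hm : h ∈ Subgroup.center H := hker ▸ MonoidHom.mem_ker.2 hh
    rcases huniv ⟨h, hm⟩ with e1 | e1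
    · exact Or.inl (congrArg Subtype.val e1)
    · exact Or.inr (congrArg Subtype.val e1)
  · rw [Subgroup.card_eq_card_quotient_mul_card_subgroup (Subgroup.center H), hc,
      Nat.card_congr e.toEquiv, mul_comm]
  · rw [hker]
    exact hns

namespace CoverData

variable {H : Type*} [Group H] (C : CoverData H)

theorem sq_eq_of_isConj {g h : H} (hc : IsConj (C.hom g) (C.hom h)) : g * g = h * h ∨ ¬ C.hom g * C.hom g = 1 := by
  by_cases h2 : C.hom g * C.hom g = 1
  swap
  · exact Or.inr h2
  left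
  obtain ⟨a, ha⟩ := isConj_iff.1 hc
  obtain ⟨b, rfl⟩ := C.surj a
  have hk : C.hom ((b * g * b⁻¹)⁻¹ * h) = 1 := by simp [← ha, mul_assoc]
  have hgc : b * (g * g) * b⁻¹ = g * g := by
    rcases C.ker_mem (g * g) (by rw [map_mul, h2]) with e | e <;> rw [e]
    · simp
    · rw [C.z_comm b, mul_assoc, mul_inv_cancel, mul_one]
  rcases C.ker_mem _ hk with e | e
  · rw [inv_mul_eq_one] at e
    rw [← e, ← hgc]
    group
  · rw [inv_mul_eq_iff_eq_mul] at e
    rw [e, mul_assoc (b * g * b⁻¹), ← mul_assoc C.z, ← C.z_comm, mul_assoc _ C.z C.z, C.z_sq,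
      mul_one, ← hgc]
    group

theorem sq_eq_invol {g h : H} (hg : C.hom g * C.hom g = 1) (hh : C.hom h * C.hom h = 1)
    (hs : ((C.hom g : alternatingGroup (Fin 11)) : P11T).support.card = (C.hom h : P11T).support.card)
    (h9 : (C.hom g : P11T).support.card ≤ 9) : g * g = h * h :=
  (C.sq_eq_of_isConj (isConj_invol hg hh hs h9)).resolve_right (fun hn => hn hg)

/-- The generators of Carmichael. -/
def carGen (i : ℕ) : P11T := adjSwap 10 0 * adjSwap 10 (i + 1)

theorem carGen_facts : (∀ i : Fin 9, Equiv.Perm.sign (carGen i) = 1) ∧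
    (∀ i : Fin 9, 1 ≤ i.val → carGen i * carGen i = 1 ∧ (carGen i).support.card = 4) ∧
    (∀ i j : Fin 9, i.val + 1 < j.val → (carGen i * carGen j) * (carGen i * carGen j) = 1 ∧
      (carGen i * carGen j).support.card = 4) := by
  refine ⟨?_, ?_, ?_⟩ <;> decide +kernel

/-- Double transpositions lift to elements squaring to `z`. -/
theorem sq_double {g : H} (hg : C.hom g * C.hom g = 1) (hs : (C.hom g : P11T).support.card = 4) :
    g * g = C.z := by
  refine (C.ker_mem (g * g) (by rw [map_mul, hg])).resolve_left fun hone => ?_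
  have hall : ∀ h : H, C.hom h * C.hom h = 1 → (C.hom h : P11T).support.card = 4 → h * h = 1 :=
    fun h h1 h2 => by rw [C.sq_eq_invol h1 hg (h2.trans hs.symm) (by omega), hone]
  let s : Fin 9 → alternatingGroup (Fin 11) := fun i =>
    ⟨carGen i, Equiv.Perm.mem_alternatingGroup.2 (carGen_facts.1 i)⟩
  have hs1 : Cfsg.Agent.S3335.CarRel s := by
    have h := Cfsg.Agent.S3335.carRel_adjSwap 9
    exact ⟨fun i hi => Subtype.ext (h.three i hi), fun i hi => Subtype.ext (h.two i hi),
      fun i j e => Subtype.ext (h.adj i j e), fun i j e => Subtype.ext (h.far i j e)⟩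
  have hfun : ∀ i, ∃ x, C.hom x = s i := fun i => C.surj _
  choose ℓ hℓ using hfun
  -- the first lift, of order dividing three
  let x₀ : H := ℓ 0 ^ 4
  have hx₀ : C.hom x₀ = s 0 := by
    rw [map_pow, hℓ, pow_succ, hs1.three 0 rfl, one_mul]
  have hx₀3 : x₀ ^ 3 = 1 := by
    have h6 : (ℓ 0 ^ 3) * (ℓ 0 ^ 3) = 1 := by
      rcases C.ker_mem (ℓ 0 ^ 3) (by rw [map_pow, hℓ, hs1.three 0 rfl]) with e | e <;> rw [e]
      · exact one_mul 1
      · exact C.z_sq
    rw [show x₀ ^ 3 = ((ℓ 0 ^ 3) * (ℓ 0 ^ 3)) * ((ℓ 0 ^ 3) * (ℓ 0 ^ 3)) by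
      simp only [x₀, ← pow_mul, ← pow_add], h6, one_mul]
  -- the other lifts, the signs fixed in order
  classical
  let fix3 : H → H → H := fun p c => if (p * c) ^ 3 = 1 then c else c * C.z
  let x : ℕ → H := fun n => Nat.rec x₀ (fun k p => fix3 p (if h : k + 1 < 9 then ℓ ⟨k + 1, h⟩ else 1)) n
  have hxs : ∀ (k : ℕ) (hk : k + 1 < 9), x (k + 1) = fix3 (x k) (ℓ ⟨k + 1, hk⟩) := fun k hk => by
    show fix3 (x k) _ = _
    rw [dif_pos hk]
  have hfix : ∀ p c, C.hom (fix3 p c) = C.hom c := fun p c => by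
    simp only [fix3]
    split <;> simp [C.hom_z]
  have hximg : ∀ i : Fin 9, C.hom (x i.val) = s i := by
    rintro ⟨_ | k, hk⟩
    · exact hx₀
    · show C.hom (x (k + 1)) = _
      rw [hxs k hk, hfix, hℓ]
  let y : Fin 9 → H := fun i => x i.val
  have hy : Cfsg.Agent.S3335.CarRel y := by
    refine ⟨fun i hi => ?_, fun i hi => ?_, fun i j hij => ?_, fun i j hij => ?_⟩
    · have : y i = x₀ := by show x i.val = _; rw [hi]; rfl
      rw [this, hx₀3]
    · obtain ⟨h1, h2⟩ := carGen_facts.2.1 i hi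
      rw [pow_two]
      refine hall _ ?_ ?_ <;> rw [hximg]
      · exact Subtype.ext h1
      · exact h2
    · obtain ⟨j, hj⟩ := j
      simp only at hij
      subst hij
      show (x i.val * x (i.val + 1)) ^ 3 = 1
      rw [hxs i.val hj]
      simp only [fix3]
      split
      · assumption
      · rename_i hne
        have hk : C.hom ((x i.val * ℓ ⟨i.val + 1, hj⟩) ^ 3) = 1 := by
          rw [map_pow, map_mul, hximg, hℓ]
          exact hs1.adj i ⟨i.val + 1, hj⟩ rfl
        have hcz : Commute (x i.val * ℓ ⟨i.val + 1, hj⟩) C.z := C.z_comm _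
        rw [← mul_assoc, hcz.mul_pow, (C.ker_mem _ hk).resolve_left hne, pow_succ, pow_two, C.z_sq,
          one_mul, C.z_sq]
    · obtain ⟨h1, h2⟩ := carGen_facts.2.2 i j hij
      rw [pow_two]
      refine hall _ ?_ ?_ <;> rw [map_mul, hximg, hximg]
      · exact Subtype.ext h1
      · exact h2
  let P := PresentedGroup (Cfsg.Agent.S3335.carRels 9)
  obtain ⟨eP⟩ := Cfsg.Agent.S3335.nonempty_equiv 9
  let ψ : P →* H := PresentedGroup.toGroup (Cfsg.Agent.S3335.lift_of_carRel hy)
  have hψ : ∀ i, ψ (PresentedGroup.of i) = y i := fun i => PresentedGroup.toGroup.of _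
  let φ : alternatingGroup (Fin 11) →* alternatingGroup (Fin 11) :=
    C.hom.comp (ψ.comp eP.symm.toMonoidHom)
  haveI : IsSimpleGroup (alternatingGroup (Fin 11)) := alternatingGroup.isSimpleGroup (by simp)
  have hinj : Function.Injective φ := by
    refine (MonoidHom.ker_eq_bot_iff φ).1 ?_
    rcases (φ.normal_ker).eq_bot_or_eq_top with h | h
    · exact h
    · have h1 : φ (eP (PresentedGroup.of (1 : Fin 9))) = 1 :=
        MonoidHom.mem_ker.1 (h.symm ▸ Subgroup.mem_top _)
      simp only [φ, MonoidHom.comp_apply, MulEquiv.coe_toMonoidHom, MulEquiv.symm_apply_apply, hψ,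
        y, hximg] at h1
      have h2 := (carGen_facts.2.1 1 le_rfl).2
      rw [show carGen (1 : Fin 9) = ((1 : alternatingGroup (Fin 11)) : P11T) from
        congrArg Subtype.val h1] at h2
      simp at h2
  have hsurj : Function.Surjective φ := Finite.surjective_of_injective hinj
  refine C.nosplit (ψ.comp eP.symm.toMonoidHom).range
    (Subgroup.isComplement'_of_disjoint_and_mul_eq_univ ?_ ?_)
  · rw [disjoint_iff, eq_bot_iff]
    rintro _ ⟨hk, ⟨a, rfl⟩⟩
    have ha : a = 1 := hinj (show φ a = φ 1 by rw [map_one]; exact MonoidHom.mem_ker.1 hk)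
    simp [ha]
  · rw [Set.eq_univ_iff_forall]
    intro h
    obtain ⟨a, ha⟩ := hsurj (C.hom h)
    refine ⟨h * ((ψ.comp eP.symm.toMonoidHom) a)⁻¹, ?_, (ψ.comp eP.symm.toMonoidHom) a, ⟨a, rfl⟩,
      inv_mul_cancel_right _ _⟩
    show C.hom (h * _) = 1
    rw [map_mul, map_inv, show C.hom ((ψ.comp eP.symm.toMonoidHom) a) = C.hom h from ha,
      mul_inv_cancel]

end CoverData

end CfsgLib.LyFus8
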