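import Cfsg.Agent.LyFus8.Cover
import Cfsg.Agent.Fus.TwoSimple
import Cfsg.Agent.ZStar.Theorem

/-!
A simple group with an involution centralised by a non-split double cover of `A₁₁`, of order
divisible exactly by `2 ^ 8`, has simple `2`-fusion systems.
-/

set_option autoImplicit false
set_option linter.style.haveILetI false
set_option maxRecDepth 100000

namespace CfsgLib.LyFus8

open Cfsg

theorem isSimple_two_fusion {G : Type*} [Group G] [Finite G] [IsSimpleGroup G]
    (h2part : (Nat.card G).factorization 2 = 8) {t : G} (ht : orderOf t = 2)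
    (hH : IsNonsplitDoubleCover (Subgroup.centralizer ({t} : Set G)) (alternatingGroup (Fin 11)))
    (S : Sylow 2 G) : (Cfsg.groupFusionSystem (S : Subgroup G)).IsSimple 2 := by
  haveI : Fact (Nat.Prime 2) := ⟨Nat.prime_two⟩
  set H : Subgroup G := Subgroup.centralizer ({t} : Set G)
  obtain ⟨C⟩ := exists_coverData hH
  have ht1 : t ≠ 1 := fun h => by simp [h] at ht
  have htt : t * t = 1 := by rw [← pow_two, ← ht]; exact pow_orderOf_eq_one t
  have hcomm : ∀ h : H, (h : G) * t = t * h := fun h => Subgroup.mem_centralizer_singleton_iff.1 h.2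
  let th : H := ⟨t, Subgroup.mem_centralizer_singleton_iff.2 rfl⟩
  have hz : C.z = th := by
    rcases C.ker_mem th (C.central_ker th fun a => Subtype.ext (hcomm a)) with h | h
    · exact absurd (congrArg Subtype.val h) ht1
    · exact h.symm
  have hzt : (C.z : G) = t := by rw [hz]
  let π : H →* P11T := (alternatingGroup (Fin 11)).subtype.comp C.hom
  have hπker : ∀ h : H, π h = 1 → h = 1 ∨ h = C.z := fun h hh => C.ker_mem h (Subtype.ext hh)
  have hπsurj : ∀ {σ : P11T}, σ ∈ alternatingGroup (Fin 11) → ∃ h, π h = σ := fun {σ} hσ => by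
    obtain ⟨h, hh⟩ := C.surj ⟨σ, hσ⟩
    exact ⟨h, congrArg Subtype.val hh⟩
  have hlift : ∀ {σ : P11T}, σ ∈ grp → ∃ h, π h = σ := fun {σ} hσ => hπsurj (grp_le hσ)
  -- the Sylow subgroup
  let P : Subgroup G := (grp.comap π).map H.subtype
  have hP : Nat.card P = 2 ^ 8 := by
    rw [Subgroup.card_map_of_injective H.subtype_injective]
    let Q : Subgroup (alternatingGroup (Fin 11)) := grp.subgroupOf (alternatingGroup (Fin 11))
    have hQ : Nat.card Q = 128 := by
      rw [Nat.card_congr (Subgroup.subgroupOfEquivOfLe grp_le).toEquiv, card_grp]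
    have e1 := Subgroup.card_mul_index (Q.comap C.hom)
    rw [Subgroup.index_comap_of_surjective _ C.surj, C.card_eq, ← Subgroup.card_mul_index Q, hQ,
      show 2 * (128 * Q.index) = 256 * Q.index by ring] at e1
    exact Nat.eq_of_mul_eq_mul_right (Nat.pos_of_ne_zero Subgroup.index_ne_zero_of_finite) e1
  let S₀ : Sylow 2 G := Sylow.ofCard P (by rw [hP, h2part])
  have hmem : ∀ {x : G}, x ∈ (S₀ : Subgroup G) ↔ ∃ h : H, π h ∈ grp ∧ (h : G) = x := by
    intro x
    show x ∈ P ↔ _
    simp [P, Subgroup.mem_map]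
  have htS : t ∈ (S₀ : Subgroup G) := hmem.2 ⟨C.z, by
    rw [show π C.z = 1 from congrArg Subtype.val C.hom_z]; exact one_mem _, hzt⟩
  -- squares of lifts
  obtain ⟨s, hs⟩ := hlift (gen_mem 0)
  obtain ⟨wl, hwl⟩ := hlift wgen_mem
  have hss : s * s = C.z := C.sq_double
    (Subtype.ext (show π s * π s = 1 by rw [hs]; exact gen_mul_self 0))
    (show (π s).support.card = 4 by rw [hs]; exact support_gen 0 (by decide))
  have hnc : s * wl ≠ wl * s := by
    intro hcm
    have hA : (wl * s) * (wl * s) = wl * wl := C.sq_eq_invol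
      (Subtype.ext (show π (wl * s) * π (wl * s) = 1 by
        rw [map_mul, hwl, hs]; exact special_sq.2.2.1))
      (Subtype.ext (show π wl * π wl = 1 by rw [hwl]; exact special_sq.1))
      (show (π (wl * s)).support.card = (π wl).support.card by
        rw [map_mul, hwl, hs, support_special.2.2.2, support_special.2.1])
      (show (π (wl * s)).support.card ≤ 9 by
        rw [map_mul, hwl, hs, support_special.2.2.2]; norm_num)
    have e : (wl * s) * (wl * s) = wl * wl * (s * s) := by
      rw [mul_assoc wl s, ← mul_assoc s wl, hcm]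
      simp only [mul_assoc]
    rw [e, hss] at hA
    exact C.z_ne (mul_eq_left.1 hA)
  -- the centre
  have hcent : ∀ x ∈ (S₀ : Subgroup G), x ≠ 1 → (∀ y ∈ (S₀ : Subgroup G), y * x = x * y) → x = t := by
    intro x hx hx1 hc
    obtain ⟨h, hh, rfl⟩ := hmem.1 hx
    obtain ⟨n, hn⟩ := mem_grp.1 hh
    have hcm : ∀ y : H, π y ∈ grp → y * h = h * y := fun y hy =>
      Subtype.ext (hc _ (hmem.2 ⟨y, hy, rfl⟩))
    have hk : ∀ k : Fin 7, elt n * gen k = gen k * elt n := by
      intro k
      obtain ⟨y, hy⟩ := hlift (gen_mem k)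
      rw [hn, ← hy, ← map_mul, ← map_mul, hcm y (hy ▸ gen_mem k)]
    rcases central_elt n hk with h1 | h1
    · rcases hπker h (hn.symm.trans h1) with e | e
      · exact absurd (by rw [e]; rfl) hx1
      · rw [e, hzt]
    · refine absurd ?_ hnc
      have h2 : π (wl⁻¹ * h) = 1 := by rw [map_mul, map_inv, hwl, ← hn, h1, inv_mul_cancel]
      have h3 : s * h = h * s := hcm s (hs ▸ gen_mem 0)
      rcases hπker _ h2 with e | e
      · rwa [show h = wl from (inv_mul_eq_one.1 e).symm] at h3
      · rw [inv_mul_eq_iff_eq_mul.1 e, ← mul_assoc, mul_assoc wl C.z s, ← C.z_comm s,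
          ← mul_assoc] at h3
        exact mul_right_cancel h3
  refine CfsgLib.Fus.TwoSimple.isSimple_of_local S₀ (fun h => ht1 ?_) ?_ ?_ S
  · rwa [h, Subgroup.mem_bot] at htS
  · -- automorphisms of odd order
    intro g hg ho
    have hg' : ∀ x, x ∈ (S₀ : Subgroup G) ↔ g * x * g⁻¹ ∈ (S₀ : Subgroup G) :=
      Subgroup.mem_normalizer_iff.1 hg
    have hgt : g * t * g⁻¹ = t := by
      refine hcent _ ((hg' t).1 htS) (fun h => ht1 (conj_eq_one_iff.1 h)) fun y hy => ?_
      obtain ⟨h, hh, hy'⟩ := hmem.1 (show g⁻¹ * y * g ∈ (S₀ : Subgroup G) by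
        rw [hg']; simpa [mul_assoc] using hy)
      have hc := hcomm h
      rw [hy'] at hc
      calc y * (g * t * g⁻¹) = g * ((g⁻¹ * y * g) * t) * g⁻¹ := by group
        _ = g * (t * (g⁻¹ * y * g)) * g⁻¹ := by rw [hc]
        _ = g * t * g⁻¹ * y := by group
    let gh : H := ⟨g, Subgroup.mem_centralizer_singleton_iff.2 (mul_inv_eq_iff_eq_mul.1 hgt)⟩
    have hnorm : ∀ (a : H), (∀ x, x ∈ (S₀ : Subgroup G) → (a : G) * x * (a : G)⁻¹ ∈ (S₀ : Subgroup G)) →
        ∀ e ∈ grp, π a * e * (π a)⁻¹ ∈ grp := by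
      intro a ha e he
      obtain ⟨y, hy⟩ := hlift he
      obtain ⟨y', hy', e'⟩ := hmem.1 (ha y (hmem.2 ⟨y, hy ▸ he, rfl⟩))
      have : y' = a * y * a⁻¹ := Subtype.ext (by simpa using e')
      rw [this, map_mul, map_mul, map_inv, hy] at hy'
      exact hy'
    have h1 := hnorm gh fun x hx => (hg' x).1 hx
    have h2 := hnorm gh⁻¹ fun x hx => by
      rw [hg']
      simpa [gh, mul_assoc] using hx
    have hπ : π gh = 1 := by
      refine odd_normalizer_eq_one ho ?_ h1 fun e he => by simpa using h2 e he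
      rw [← map_pow, show gh ^ orderOf g = 1 from Subtype.ext (by simp [gh, pow_orderOf_eq_one]),
        map_one]
    have hg1 : g = 1 := by
      rcases hπker gh hπ with e | e
      · exact congrArg Subtype.val e
      · have : g = t := (congrArg Subtype.val e).trans hzt
        rw [this, ht] at ho
        exact absurd ho (by decide)
    intro x _
    simp [hg1]
  · -- no proper closed subgroup
    intro T hT hne hcl
    obtain ⟨z, hzT, hz1, hzc⟩ := CfsgLib.Fus.TwoSimple.exists_central_mem S₀.isPGroup' hT hne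
      fun s hs x hx => hcl s x hx (mul_mem (mul_mem hs (hT hx)) (inv_mem hs))
    have htT : t ∈ T := hcent z (hT hzT) hz1 hzc ▸ hzT
    obtain ⟨g, hgS, hgt⟩ : ∃ g : G, g * t * g⁻¹ ∈ (S₀ : Subgroup G) ∧ g * t * g⁻¹ ≠ t := by
      by_contra hno
      push Not at hno
      obtain ⟨N, hN, hodd, hcN⟩ := CfsgLib.ZStar.exists_normal_odd_of_no_fusion ht S₀ hno
      rcases hN.eq_bot_or_eq_top with rfl | rfl
      · have hall : ∀ a : G, t * a = a * t := fun a => by
          have := Subgroup.mem_bot.1 (hcN a)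
          rwa [mul_inv_eq_one, mul_inv_eq_iff_eq_mul] at this
        have htc : t ∈ Subgroup.center G := Subgroup.mem_center_iff.2 fun a => (hall a).symm
        rcases (inferInstance : (Subgroup.center G).Normal).eq_bot_or_eq_top with h | h
        · rw [h, Subgroup.mem_bot] at htc
          exact ht1 htc
        · have hc : Subgroup.center H = ⊤ := eq_top_iff.2 fun a _ =>
            Subgroup.mem_center_iff.2 fun b => Subtype.ext
              ((Subgroup.mem_center_iff (G := G)).1 (h.symm ▸ Subgroup.mem_top (a : G)) (b : G))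
          have h1 := hH.1
          rw [hc, Subgroup.card_top, C.card_eq] at h1
          have h2 : 3 ≤ Fintype.card (Fin 11) := by simp
          have h3 := two_mul_nat_card_alternatingGroup (α := Fin 11)
          rw [h1, Nat.card_perm, Nat.card_fin] at h3
          exact absurd h3 (by decide)
      · rw [Subgroup.card_top] at hodd
        have := ht ▸ orderOf_dvd_natCard t
        exact (Nat.not_even_iff_odd.2 hodd) (even_iff_two_dvd.2 this)
    have hxT : g * t * g⁻¹ ∈ T := hcl g t htT hgS
    obtain ⟨h, hh, hx⟩ := hmem.1 hgS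
    obtain ⟨n, hn⟩ := mem_grp.1 hh
    have hn1 : elt n ≠ 1 := by
      intro h1
      rcases hπker h (hn.symm.trans h1) with e | e
      · rw [e] at hx
        exact ht1 ((conj_eq_one_iff (a := g) (b := t)).1 (by rw [← hx, Subgroup.coe_one]))
      · rw [e, hzt] at hx
        exact hgt hx.symm
    have hh2 : h * h = 1 := Subtype.ext (by
      rw [Subgroup.coe_mul, hx, Subgroup.coe_one,
        show g * t * g⁻¹ * (g * t * g⁻¹) = g * (t * t) * g⁻¹ by group, htt]
      group)
    have hn2 : elt n * elt n = 1 := by rw [hn, ← map_mul, hh2, map_one]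
    -- the image of T
    let T' : Subgroup P11T := (T.comap H.subtype).map π
    have hT' : ∀ {σ d : P11T}, σ ∈ T' → σ ∈ grp → d ∈ grp → σ * σ = 1 → d * d = 1 →
        σ.support.card = d.support.card → σ.support.card ≤ 9 → d ∈ T' := by
      rintro σ d ⟨a, haT, rfl⟩ hσ hd h1 h2 h3 h4
      obtain ⟨c, hc⟩ := isConj_iff.1 (isConj_invol (a := C.hom a) (b := ⟨d, grp_le hd⟩)
        (Subtype.ext h1) (Subtype.ext h2) h3 h4)
      obtain ⟨y, rfl⟩ := C.surj c
      have hπy : π (y * a * y⁻¹) = d := by
        rw [map_mul, map_mul, map_inv]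
        exact congrArg Subtype.val hc
      refine ⟨y * a * y⁻¹, ?_, hπy⟩
      show ((y * a * y⁻¹ : H) : G) ∈ T
      rw [Subgroup.coe_mul, Subgroup.coe_mul, Subgroup.coe_inv]
      refine hcl _ _ haT (hmem.2 ⟨y * a * y⁻¹, hπy ▸ hd, by simp⟩)
    have hhT : elt n ∈ T' := ⟨h, show (h : G) ∈ T from hx ▸ hxT, hn.symm⟩
    have m : ∀ k, gen k ∈ grp := gen_mem
    have height : ∀ {σ : P11T}, σ ∈ T' → σ ∈ grp → σ * σ = 1 → σ.support.card = 8 → gen 3 ∈ T' := by
      intro σ h1 h2 h3 h4
      have a1 := hT' h1 h2 wgen_mem h3 special_sq.1 (by rw [h4, support_special.2.1]) (by omega)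
      have a2 := hT' h1 h2 (mul_mem (mul_mem (m 0) (m 1)) (m 2)) h3 special_sq.2.1
        (by rw [h4, support_special.2.2.1]) (by omega)
      have := mul_mem a1 a2
      rwa [special_sq.2.2.2] at this
    have hg3 : gen 3 ∈ T' := by
      rcases invol_support n hn2 hn1 with hs4 | hs8
      · exact hT' hhT (elt_mem n) (m 3) hn2 (gen_mul_self 3)
          (by rw [hs4, support_gen 3 (by decide)]) (by omega)
      · exact height hhT (elt_mem n) hn2 hs8
    have hfour : ∀ k : Fin 7, k ≠ 6 → gen k ∈ T' := fun k hk =>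
      hT' hg3 (m 3) (m k) (gen_mul_self 3) (gen_mul_self k)
        (by rw [support_gen 3 (by decide), support_gen k hk])
        (by rw [support_gen 3 (by decide)]; norm_num)
    have hwT : wgen ∈ T' := mul_mem (mul_mem (mul_mem (hfour 0 (by decide)) (hfour 1 (by decide)))
      (hfour 2 (by decide))) (hfour 3 (by decide))
    have hall : grp ≤ T' := by
      refine (Subgroup.closure_le _).2 ?_
      rintro _ ⟨k, rfl⟩
      by_cases hk : k = 6
      · rw [hk]
        exact hT' hwT wgen_mem (m 6) special_sq.1 (gen_mul_self 6)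
          (by rw [support_special.2.1, support_special.1]) (by rw [support_special.2.1]; norm_num)
      · exact hfour k hk
    intro x hx
    obtain ⟨a, ha, rfl⟩ := hmem.1 hx
    obtain ⟨b, hb, he⟩ := hall ha
    have hb' : (b : G) ∈ T := hb
    rcases hπker (b⁻¹ * a) (by rw [map_mul, map_inv, he, inv_mul_cancel]) with e | e
    · rwa [← inv_mul_eq_one.1 e]
    · rw [inv_mul_eq_iff_eq_mul.1 e, Subgroup.coe_mul, hzt]
      exact T.mul_mem hb' htT

end CfsgLib.LyFus8
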