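import Cfsg.Agent.LyFus8.Main
import Cfsg.Prelude.Def_Sporadic

/-!
The simple `2`-fusion statement for groups isomorphic to a group with the Lyons order and a
non-split `2.A₁₁` involution centraliser.
-/

set_option autoImplicit false

namespace CfsgLib.LyFus8

open Cfsg

/-- Being a non-split double cover is invariant under isomorphism. -/
theorem cover_congr {H H' K : Type*} [Group H] [Group H'] [Group K] (f : H ≃* H')
    (h : IsNonsplitDoubleCover H' K) : IsNonsplitDoubleCover H K := by
  obtain ⟨hc, ⟨e⟩, hns⟩ := h
  have hmap : (Subgroup.center H).map f.toMonoidHom = Subgroup.center H' := by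
    ext x
    constructor
    · rintro ⟨y, hy, rfl⟩
      exact Subgroup.mem_center_iff.2 fun b => f.symm.injective (by
        simpa using Subgroup.mem_center_iff.1 hy (f.symm b))
    · intro hx
      refine ⟨f.symm x, Subgroup.mem_center_iff.2 fun b => f.injective ?_, f.apply_symm_apply x⟩
      simpa using Subgroup.mem_center_iff.1 hx (f b)
  refine ⟨?_, ⟨(QuotientGroup.congr _ _ f hmap).trans e⟩, fun L hL => hns (L.map f.toMonoidHom) ?_⟩
  · rw [← hc, ← hmap, Subgroup.card_map_of_injective f.injective]
  · rw [← hmap]
    refine Subgroup.isComplement'_of_disjoint_and_mul_eq_univ ?_ ?_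
    · exact Subgroup.disjoint_map f.injective hL.disjoint
    · rw [Set.eq_univ_iff_forall]
      intro x
      obtain ⟨⟨a, b⟩, hab⟩ := hL.2 (f.symm x)
      refine ⟨f a.1, ⟨a.1, a.2, rfl⟩, f b.1, ⟨b.1, b.2, rfl⟩, ?_⟩
      show f a.1 * f b.1 = x
      rw [← map_mul, show (a.1 * b.1) = f.symm x from hab, f.apply_symm_apply]

theorem factorization_two_order : (51765179004000000 : ℕ).factorization 2 = 8 := by
  rw [show (51765179004000000 : ℕ) = 2 ^ 8 * 202207730484375 by norm_num,
    Nat.factorization_mul (by norm_num) (by norm_num), Finsupp.add_apply,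
    Nat.Prime.factorization_pow Nat.prime_two, Finsupp.single_eq_same,
    Nat.factorization_eq_zero_of_not_dvd (by norm_num)]

/-- The fusion system statement, from simplicity, order and one involution centraliser. -/
theorem isSimple_of_iso {L : Type*} [Group L] (hL : Cfsg.IsLy L)
    (hC : ∃ t : L, orderOf t = 2 ∧
      IsNonsplitDoubleCover (Subgroup.centralizer ({t} : Set L)) (alternatingGroup (Fin 11)))
    {G : Type*} [Group G] [Finite G] (e : G ≃* L) (S : Sylow 2 G) :
    (Cfsg.groupFusionSystem (S : Subgroup G)).IsSimple 2 := by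
  obtain ⟨hsimp, hcard⟩ := hL
  obtain ⟨t, ht, hcov⟩ := hC
  have : IsSimpleGroup G := e.isSimpleGroup
  have hmem : ∀ x : G, x ∈ Subgroup.centralizer ({e.symm t} : Set G) ↔
      e x ∈ Subgroup.centralizer ({t} : Set L) := fun x => by
    rw [Subgroup.mem_centralizer_singleton_iff, Subgroup.mem_centralizer_singleton_iff,
      ← e.injective.eq_iff]
    simp
  refine isSimple_two_fusion (t := e.symm t) ?_ ?_ (cover_congr
    (H' := Subgroup.centralizer ({t} : Set L))
    { toFun := fun x => ⟨e x, (hmem x).1 x.2⟩
      invFun := fun y => ⟨e.symm y, (hmem _).2 (by rw [e.apply_symm_apply]; exact y.2)⟩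
      left_inv := fun x => Subtype.ext (e.symm_apply_apply x)
      right_inv := fun y => Subtype.ext (e.apply_symm_apply y)
      map_mul' := fun x y => Subtype.ext (map_mul e (x : G) (y : G)) } hcov) S
  · rw [Nat.card_congr e.toEquiv, hcard]
    exact factorization_two_order
  · rw [orderOf_injective e.symm.toMonoidHom e.symm.injective t |>.symm] at *
    exact ht

end CfsgLib.LyFus8
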